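import Cfsg.Agent.Lib.RS4.Bas
import Cfsg.Agent.Lib.Oct.FC
import Cfsg.Agent.Lib.Core.GrpBasic
import Cfsg.Agent.Lib.Inv73.ZStar
import Cfsg.Agent.Lib.Comp.FStar
import Cfsg.Agent.S0205

/-! Standard components of type `²F₄(q)`, package BR2: see `blueprint/RS4/README.md`. -/

set_option autoImplicit false
set_option linter.unusedSectionVars false

namespace H51.RS
open Subgroup H69 H78.Oct H78.Oct.Co
open scoped commutatorElement

variable {F G : Type*} [Field F] [Tits F] [Finite F] [Group G] [Finite G]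

namespace BR2

theorem cmap_z (r : F ≃+* F) (t : F) : cmap r (y4 0 t) = y4 0 (r t) := by
  ext <;> simp [cmap]

end BR2

theorem aut_of_card (O : Oct F G) (h1 : ∀ r : F ≃+* F, ∃ f : G ≃* G,
      (∀ a, f (O.nf a) = O.nf (cmap r a)) ∧ f O.n1 = O.n1 ∧ f O.n2 = O.n2)
    (h2 : Nat.card (Cfsg.Out G) = Nat.card (F ≃+* F)) (θ : G ≃* G) :
    ∃ l : G, ∃ r : F ≃+* F, (∀ a, θ (O.nf a) = l * O.nf (cmap r a) * l⁻¹) ∧
      θ O.n1 = l * O.n1 * l⁻¹ ∧ θ O.n2 = l * O.n2 * l⁻¹ := by
  choose f hf hf1 hf2 using h1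
  have fin : Finite (MulAut G) :=
    Finite.of_injective (fun g : MulAut G => (g : G → G)) DFunLike.coe_injective
  let φ : (F ≃+* F) → Cfsg.Out G := fun r => QuotientGroup.mk (f r : MulAut G)
  have key : ∀ (a b : MulAut G), (QuotientGroup.mk a : Cfsg.Out G) = QuotientGroup.mk b →
      ∃ l : G, ∀ x, b x = a (l * x * l⁻¹) := fun a b e => by
    obtain ⟨l, hl⟩ := QuotientGroup.eq.1 e
    refine ⟨l, fun x => ?_⟩
    have : b = a * MulAut.conj l := by rw [hl, mul_inv_cancel_left]
    rw [this, MulAut.mul_apply, MulAut.conj_apply]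
  have inj : Function.Injective φ := fun r r' e => by
    obtain ⟨l, hl⟩ := key _ _ e
    have fz : ∀ s, f s O.z = O.z := fun s => by
      rw [Oct.z, hf, BR2.cmap_z, map_one]
    have lz : l * O.z * l⁻¹ = O.z := (f r).injective (by
      have := hl O.z
      exact this.symm.trans ((fz r').trans (fz r).symm))
    ext t
    have e1 := hl (O.nf (y4 0 t))
    rw [Oct.OP.cen_all O lz t] at e1
    have e2 : O.nf (cmap r' (y4 0 t)) = O.nf (cmap r (y4 0 t)) := (hf r' _).symm.trans (e1.trans (hf r _))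
    have e3 := congrArg Co.b4 (O.inj e2)
    rw [BR2.cmap_z, BR2.cmap_z] at e3
    simpa using e3.symm
  have sur : Function.Surjective φ := (inj.bijective_of_nat_card_le h2.le).2
  obtain ⟨r, hr⟩ := sur (QuotientGroup.mk (θ : MulAut G))
  obtain ⟨l, hl⟩ := key _ _ hr
  have k : ∀ x, θ x = f r l * f r x * (f r l)⁻¹ := fun x => by
    have := hl x
    rw [map_mul, map_mul, map_inv] at this
    exact this
  exact ⟨f r l, r, fun a => by rw [k, hf], by rw [k, hf1], by rw [k, hf2]⟩

theorem cls_of_two (O : Oct F G) (h2 : (ConjClasses.mk '' {g : G | orderOf g = 2}).ncard = 2) (x : G)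
    (hx : x * x = 1) : x = 1 ∨ IsConj O.z x ∨ IsConj (O.nf (x5 1)) x := by
  by_cases x1 : x = 1
  · exact Or.inl x1
  have : Fact (Nat.Prime 2) := ⟨Nat.prime_two⟩
  refine Or.inr (O.classes h2 (fun hc => ?_) (orderOf_eq_prime (by rw [sq, hx]) x1))
  obtain ⟨P, hP⟩ := O.exists_par
  have ez : (centralizer ({O.z} : Set G)).subtype P.z = O.z := hP.nf _
  have H : Hyp P (centralizer ({O.z} : Set G)).subtype :=
    { inj := Subtype.val_injective
      odd := by
        rw [range_subtype]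
        refine Odd.of_dvd_nat O.odd_index (index_dvd_of_le ?_)
        rintro _ ⟨a, rfl⟩
        rw [← hP.nf]
        exact (P.nf a).2
      norm := fun g hg c => by
        rw [ez] at hg
        have m : g ∈ centralizer ({O.z} : Set G) := mem_centralizer_singleton_iff.2 hg.eq
        exact ⟨⟨g, m⟩ * c * ⟨g, m⟩⁻¹, rfl⟩
      core := fun g hg ho => by
        have hz : Commute g O.z := ez ▸ hg (y4 0 1) (by simp)
        have m : g ∈ centralizer ({O.z} : Set G) := mem_centralizer_singleton_iff.2 hz.eq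
        obtain ⟨t, ht⟩ := P.cent_Q (c := ⟨g, m⟩) fun a ha => Subtype.ext (hg a ha).eq
        have e : g = O.nf (y4 0 t) := (congrArg Subtype.val ht).trans (hP.nf _)
        have g2 : g ^ 2 = 1 := by
          rw [e, ← map_pow, sq, show (y4 0 t * y4 0 t : Co F) = 1 by
            ext <;> simp [CharTwo.add_self_eq_zero], map_one]
        exact orderOf_eq_one_iff.1 (Nat.eq_one_of_dvd_coprimes (Nat.coprime_two_right.2 ho) dvd_rfl
          (orderOf_dvd_of_pow_eq_one g2)) }
  obtain ⟨c, hc⟩ := isConj_iff.1 hc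
  exact H.not_x5 c (by rw [ez, hc]; exact (hP.nf _).symm)

theorem not_isolated (hFs : IsSimpleGroup (Cfsg.generalizedFittingSubgroup G))
    (hFna : ¬ IsMulCommutative (Cfsg.generalizedFittingSubgroup G)) {t : G} (tt : t * t = 1) (t1 : t ≠ 1)
    (h : ∀ g, g * t * g⁻¹ * t = t * (g * t * g⁻¹) → g * t * g⁻¹ = t) : False := by
  have : Fact (Nat.Prime 2) := ⟨Nat.prime_two⟩
  have ht : orderOf t = 2 := orderOf_eq_prime (by rw [sq, tt]) t1
  have hn : (Cfsg.generalizedFittingSubgroup G).Normal := H23.fStar_normal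
  have hcen : ∀ u ∈ Cfsg.generalizedFittingSubgroup G,
      (∀ g ∈ Cfsg.generalizedFittingSubgroup G, g * u = u * g) → u = 1 := by
    intro u hu h
    have k : (⟨u, hu⟩ : Cfsg.generalizedFittingSubgroup G) ∈ Subgroup.center _ :=
      Subgroup.mem_center_iff.2 fun g => Subtype.ext (h g g.2)
    rcases (inferInstance : (Subgroup.center (Cfsg.generalizedFittingSubgroup G)).Normal).eq_bot_or_eq_top
      with e | e
    · rw [e, Subgroup.mem_bot] at k
      exact congrArg Subtype.val k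
    · exact absurd ⟨⟨fun a b => Subgroup.mem_center_iff.1 (e ▸ Subgroup.mem_top b) a⟩⟩ hFna
  have hZ := H73.centralizer_sup_oddCore_eq_top' ht fun g hg => h g hg.eq
  have hO : (Cfsg.oddCore G).Normal := Cfsg.pPrimeCore_normal 2 G
  have ho : Odd (Nat.card (Cfsg.oddCore G)) := H1.odd_card_oddCore
  have hk : ∀ g : G, t * g * t⁻¹ * g⁻¹ ∈ Cfsg.oddCore G := fun g => by
    have m : g ∈ centralizer ({t} : Set G) ⊔ Cfsg.oddCore G := hZ ▸ mem_top g
    rw [← SetLike.mem_coe, mul_normal] at m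
    obtain ⟨c, hc, o, hoo, rfl⟩ := m
    have e : c * t = t * c := mem_centralizer_singleton_iff.1 hc
    have : t * (c * o) * t⁻¹ * (c * o)⁻¹ = c * ((t * o * t⁻¹) * o⁻¹) * c⁻¹ := by
      rw [← mul_assoc t c, ← e]; group
    show t * (c * o) * t⁻¹ * (c * o)⁻¹ ∈ _
    rw [this]
    exact hO.conj_mem _ (mul_mem (hO.conj_mem _ hoo _) (inv_mem hoo)) _
  rcases (hO.subgroupOf (Cfsg.generalizedFittingSubgroup G)).eq_bot_or_eq_top with k | k
  · have h1 : ∀ g ∈ Cfsg.generalizedFittingSubgroup G, g * t = t * g := fun g hg => by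
      have m : t * g * t⁻¹ * g⁻¹ ∈ Cfsg.generalizedFittingSubgroup G :=
        mul_mem (hn.conj_mem _ hg _) (inv_mem hg)
      have : (⟨_, m⟩ : Cfsg.generalizedFittingSubgroup G) ∈ (Cfsg.oddCore G).subgroupOf _ := hk g
      rw [k, Subgroup.mem_bot] at this
      have := congrArg Subtype.val this
      exact (mul_inv_eq_iff_eq_mul.1 (mul_inv_eq_one.1 this)).symm
    exact t1 (hcen _ (H23.centralizer_fStar_le (Subgroup.mem_centralizer_iff.2 h1)) h1)
  · have hs := Cfsg.Agent.S0205.result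
      (Odd.of_dvd_nat ho (Subgroup.card_dvd_of_le (Subgroup.subgroupOf_eq_top.1 k)))
    exact hFna ⟨⟨IsSimpleGroup.comm_iff_isSolvable.2 hs⟩⟩

end H51.RS
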