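import Cfsg.Agent.Lib.RS4.BR1
import Cfsg.Agent.Lib.RS4.BR2
import Cfsg.Agent.S1754
import Cfsg.Agent.S2114
import Cfsg.Agent.S2128
import Cfsg.Agent.S2184
import Cfsg.Agent.S1072
import Cfsg.Agent.Lib.Stein.Cover

/-! Standard components of type `²F₄(q)`, package BR3: see `blueprint/RS4/README.md`. -/

set_option autoImplicit false
set_option linter.unusedSectionVars false

namespace H51.RS
open Subgroup H69 H78.Oct H78.Oct.Co
open scoped commutatorElement

variable {F G : Type*} [Field F] [Tits F] [Finite F] [Group G] [Finite G]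

theorem exists_st (L : Subgroup G) (hL : Cfsg.IsStandardSubgroup L) {K : Type*} [Field K] [Fintype K] (m : ℕ)
    (hm : 1 ≤ m) (hK : Fintype.card K = 2 ^ (2 * m + 1)) (e : L ≃* Cfsg.Lie.twistedF4 K (2 ^ m))
    (hcyc : ∀ R : Sylow 2 (centralizer (L : Set G)), IsCyclic R) :
    ∃ (_ : Tits K) (S : St K G), S.L = L := by
  obtain ⟨T, O, hO⟩ := exists_oct_aut m hK
  have hK' : Nat.card K = 2 ^ (2 * m + 1) := Nat.card_eq_fintype_card.trans hK
  have hA : Nat.card (K ≃+* K) = 2 * m + 1 := H67.card_ringAut hK'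
  have : Finite (Cfsg.Lie.twistedF4 K (2 ^ m)) := Finite.of_equiv _ e.toEquiv
  obtain ⟨⟨t, ht⟩, ho⟩ := exists_prime_orderOf_dvd_card' (G := centralizer (L : Set G)) 2
    (even_iff_two_dvd.1 hL.2.1.1)
  rw [← Subgroup.orderOf_coe] at ho
  have hn := (Cfsg.Agent.S1754.result _ hL t ho ht).1
  refine ⟨T, ⟨L, O.map e.symm, ?_, fun ρ hρ => ?_, ?_, fun x hx => ?_, fun θ => ?_, ?_, t,
    by rw [← sq, ← ho]; exact pow_orderOf_eq_one t, ?_, fun l hl => (ht l hl).symm, ?_, ?_⟩, rfl⟩
  · rw [hK']
    exact Nat.pow_le_pow_right (n := 2) (i := 3) two_pos (by omega)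
  · have h1 : orderOf (ρ : RingAut K) ∣ 2 := orderOf_dvd_of_pow_eq_one ((sq _).trans hρ)
    have h2 : orderOf (ρ : RingAut K) ∣ 2 * m + 1 := hA ▸ orderOf_dvd_natCard (ρ : RingAut K)
    exact orderOf_eq_one_iff.1 (Nat.eq_one_of_dvd_coprimes (by simp) h1 h2)
  · have := (Cfsg.Agent.S1072.result hm hK).1
    exact e.isSimpleGroup
  · rcases cls_of_two O (Cfsg.Agent.S2184.result m hK).1 (e x) (by rw [← map_mul, hx, map_one])
      with h | h | h
    · exact .inl (e.map_eq_one_iff.1 h)
    · exact .inr (.inl (e.symm_apply_apply x ▸ e.symm.toMonoidHom.map_isConj h))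
    · exact .inr (.inr (e.symm_apply_apply x ▸ e.symm.toMonoidHom.map_isConj h))
  · obtain ⟨l, r, h1, h2, h3⟩ := aut_of_card O hO ((Cfsg.Agent.S2128.result hm hK).trans hA.symm)
      (e.symm.trans (θ.trans e))
    exact ⟨e.symm l, r, fun a => by simpa [Oct.map] using congrArg e.symm (h1 a),
      by simpa [Oct.map] using congrArg e.symm h2, by simpa [Oct.map] using congrArg e.symm h3⟩
  · intro A π hA hr hk
    have hm' : ∀ x, π x ∈ L := fun x => hr ▸ ⟨x, rfl⟩
    have c : commutator A = ⊤ := by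
      rw [← Subgroup.map_subtype_inj, Subgroup.map_subtype_commutator, hA, ← MonoidHom.range_eq_map,
        range_subtype]
    have := H78.Schur.card_ker_inf_dvd (Cfsg.Agent.S2114.result hm hK)
      (e.toMonoidHom.comp (π.codRestrict _ hm'))
      (e.surjective.comp fun y => by
        obtain ⟨x, hx⟩ : y.1 ∈ π.range := by rw [hr]; exact y.2
        exact ⟨x, Subtype.ext hx⟩)
      fun x hx => mem_center_iff.2 fun y =>
        (hk x (congrArg Subtype.val (e.injective (hx.trans (map_one e).symm))) y).symm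
    rw [c, inf_top_eq] at this
    have i := (MonoidHom.ker_eq_bot_iff (e.toMonoidHom.comp (π.codRestrict _ hm'))).1
      (card_eq_one.1 (Nat.dvd_one.1 (by simpa using this)))
    exact fun x y hxy => i (congrArg e (Subtype.ext hxy))
  · rintro rfl; simp at ho
  · exact fun g hg l hl => (mem_normalizer_iff.1 (hn (mem_centralizer_singleton_iff.2 hg)) l).1 hl
  · intro R hR2 hc
    have hle : R ≤ centralizer (L : Set G) := fun r hr l hl => (hc r hr l hl).symm
    obtain ⟨P, hP⟩ := (hR2.comap_subtype :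
      IsPGroup 2 (R.subgroupOf (centralizer (L : Set G)))).exists_le_sylow
    have := hcyc P
    have : IsCyclic (R.subgroupOf (centralizer (L : Set G))) :=
      isCyclic_of_injective _ (inclusion_injective hP)
    exact isCyclic_of_surjective _ (subgroupOfEquivOfLe hle).surjective

end H51.RS
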